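/-
Quotients by finite groups of invertible order commute with base change.
-/
import Groth.Agent.L27.Quot.Local
import Groth.Agent.L27.Quot.Desc
import Groth.Agent.L27.Quot.Reynolds
import Mathlib.RingTheory.IsTensorProduct
import Mathlib.AlgebraicGeometry.Morphisms.Affine

set_option autoImplicit false
set_option linter.style.haveILetI false

open CategoryTheory CategoryTheory.Limits AlgebraicGeometry TensorProduct

universe u

namespace Groth.L02.SymZeta

/-- The averaging argument in a base change of algebras. -/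
theorem invariant_baseChange {A B A' B' : Type u} [CommRing A] [CommRing B] [CommRing A'] [CommRing B']
    [Algebra A B] [Algebra A A'] [Algebra A' B'] [Algebra A B'] [IsScalarTower A A' B']
    [Algebra B B'] [IsScalarTower A B B'] [Algebra.IsPushout A B A' B']
    (G : Type u) [Group G] [Finite G] [MulSemiringAction G B]
    [Algebra.IsInvariant A B G] [SMulCommClass G A B] [FaithfulSMul A B]
    (hn : IsUnit ((Nat.card G : ℕ) : A))
    (σ : G → B' →+* B') (hσ : ∀ g a, σ g (algebraMap A' B' a) = algebraMap A' B' a)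
    (hσB : ∀ g b, σ g (algebraMap B B' b) = algebraMap B B' (g • b)) :
    Function.Injective (algebraMap A' B') ∧
      ∀ s, (∀ g, σ g s = s) → s ∈ (algebraMap A' B').range := by
  obtain ⟨r, hr⟩ := Groth.L27.Quot.exists_retraction (A := A) (B := B) G hn
  have hbc : IsBaseChange A' (IsScalarTower.toAlgHom A B B').toLinearMap :=
    Algebra.IsPushout.out (R := A) (S := A') (R' := B) (S' := B') (self := Algebra.IsPushout.symm inferInstance)
  refine ⟨fun a a' h => ?_, fun s hs => ?_⟩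
  · let R : B' →ₗ[A'] A' := hbc.lift ((Algebra.linearMap A A').comp r)
    have hR : ∀ c, R (algebraMap A' B' c) = c := fun c => by
      rw [Algebra.algebraMap_eq_smul_one, map_smul]
      have h1 : R ((IsScalarTower.toAlgHom A B B').toLinearMap 1) = algebraMap A A' (r 1) := hbc.lift_eq _ 1
      have h3 : r 1 = 1 := (congrArg r (algebraMap A B).map_one.symm).trans (hr 1)
      have h4 : R 1 = 1 := (congrArg R (IsScalarTower.toAlgHom A B B').map_one.symm).trans
        (h1.trans ((congrArg (algebraMap A A') h3).trans (algebraMap A A').map_one))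
      rw [h4, smul_eq_mul, mul_one]
    rw [← hR a, ← hR a', h]
  · letI := Fintype.ofFinite G
    have key : ∀ t : B', ∑ g : G, σ g t ∈ (algebraMap A' B').range := fun t => by
      induction t using hbc.inductionOn with
      | zero => simp
      | tmul b =>
        obtain ⟨a, ha⟩ := Algebra.IsInvariant.isInvariant (A := A) (G := G) (∑ g : G, g • b) fun h => by
          rw [Finset.smul_sum]
          exact Fintype.sum_equiv (Equiv.mulLeft h) _ _ fun g => (mul_smul h g b).symm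
        refine ⟨algebraMap A A' a, ?_⟩
        rw [← IsScalarTower.algebraMap_apply, IsScalarTower.algebraMap_apply A B B', ha, map_sum]
        exact Finset.sum_congr rfl fun g _ => (hσB g b).symm
      | smul c t ht =>
        obtain ⟨a, ha⟩ := ht
        refine ⟨c * a, ?_⟩
        rw [map_mul, ha, Finset.mul_sum]
        refine Finset.sum_congr rfl fun g _ => ?_
        rw [Algebra.smul_def, map_mul, hσ]
      | add t t' ht ht' =>
        simp only [map_add, Finset.sum_add_distrib]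
        exact add_mem ht ht'
    have hu : IsUnit ((Nat.card G : ℕ) : A') := by
      simpa only [map_natCast] using hn.map (algebraMap A A')
    obtain ⟨a, ha⟩ := key s
    refine ⟨(hu.unit⁻¹ : A'ˣ).1 * a, ?_⟩
    rw [map_mul, ha, Finset.sum_congr rfl fun g _ => hs g, Finset.sum_const, Finset.card_univ, nsmul_eq_mul,
      ← Nat.card_eq_fintype_card, ← map_natCast (algebraMap A' B'), ← mul_assoc, ← map_mul,
      IsUnit.val_inv_mul, map_one, one_mul]

/-- A quotient by a finite group of invertible order remains a quotient after any base change. -/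
theorem isQuot_baseChange {X Y X' Y' : Scheme.{u}} {G : Type u} [Group G] [Finite G]
    {ρ : G →* Aut X} {p : X ⟶ Y} (hp : SGA1.IsQuot ρ p)
    (hn : IsUnit ((Nat.card G : ℕ) : Γ(Y, ⊤)))
    {u : X' ⟶ X} {p' : X' ⟶ Y'} {t : Y' ⟶ Y} (H : IsPullback u p' p t)
    (ρ' : G →* Aut X') (hu : ∀ g, (ρ' g).hom ≫ u = u ≫ (ρ g).hom)
    (hp' : ∀ g, (ρ' g).hom ≫ p' = p') : SGA1.IsQuot ρ' p' := by
  haveI := hp.affine
  have haff : IsAffineHom p' := MorphismProperty.of_isPullback (P := @IsAffineHom) H hp.affine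
  refine Groth.L27.Quot.isQuot_of_affine_cover haff hp' fun y => ?_
  obtain ⟨U, hU, hyU, -⟩ := exists_isAffineOpen_mem_and_subset (U := (⊤ : Y.Opens)) (x := t y) trivial
  obtain ⟨U', hU', hyU', e⟩ := exists_isAffineOpen_mem_and_subset (U := t ⁻¹ᵁ U) (x := y) hyU
  have e : U' ≤ t ⁻¹ᵁ U := e
  refine ⟨U', hU', hyU', ?_⟩
  have hW' : p' ⁻¹ᵁ U' = u ⁻¹ᵁ (p ⁻¹ᵁ U) ⊓ p' ⁻¹ᵁ U' := by
    refine (inf_eq_right.2 ?_).symm
    rw [← Scheme.Hom.comp_preimage, H.w, Scheme.Hom.comp_preimage]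
    exact p'.preimage_mono e
  have hpb := Scheme.Hom.isPullback_resLE H (US := U) (UT := U') e (UX := p ⁻¹ᵁ U) le_rfl hW'
  haveI : IsAffine U.toScheme := hU
  haveI : IsAffine U'.toScheme := hU'
  haveI : IsAffine (p ⁻¹ᵁ U).toScheme := hU.preimage p
  have eU : p' ⁻¹ᵁ U' ≤ u ⁻¹ᵁ (p ⁻¹ᵁ U) := hW' ▸ inf_le_left
  have hpo : IsPushout (p.appLE U (p ⁻¹ᵁ U) le_rfl) (t.appLE U U' e)
      (u.appLE (p ⁻¹ᵁ U) (p' ⁻¹ᵁ U') eU) (p'.appLE U' (p' ⁻¹ᵁ U') le_rfl) := by
    refine (isPushout_appTop_of_isPullback hpb).of_iso U.topIso (p ⁻¹ᵁ U).topIso U'.topIso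
      (p' ⁻¹ᵁ U').topIso ?_ ?_ ?_ ?_ <;>
    simp only [Scheme.Hom.appTop, Scheme.Hom.resLE_app_top, Category.assoc, Iso.inv_hom_id, Category.comp_id]
  rw [← Scheme.Hom.app_eq_appLE, ← Scheme.Hom.app_eq_appLE] at hpo
  letI : Algebra Γ(Y, U) Γ(X, p ⁻¹ᵁ U) := (p.app U).hom.toAlgebra
  letI : Algebra Γ(Y, U) Γ(Y', U') := (t.appLE U U' e).hom.toAlgebra
  letI : Algebra Γ(Y', U') Γ(X', p' ⁻¹ᵁ U') := (p'.app U').hom.toAlgebra
  letI : Algebra Γ(X, p ⁻¹ᵁ U) Γ(X', p' ⁻¹ᵁ U') := (u.appLE (p ⁻¹ᵁ U) (p' ⁻¹ᵁ U') eU).hom.toAlgebra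
  letI : Algebra Γ(Y, U) Γ(X', p' ⁻¹ᵁ U') :=
    ((u.appLE (p ⁻¹ᵁ U) (p' ⁻¹ᵁ U') eU).hom.comp (p.app U).hom).toAlgebra
  haveI : IsScalarTower Γ(Y, U) Γ(X, p ⁻¹ᵁ U) Γ(X', p' ⁻¹ᵁ U') := IsScalarTower.of_algebraMap_eq fun _ => rfl
  haveI : IsScalarTower Γ(Y, U) Γ(Y', U') Γ(X', p' ⁻¹ᵁ U') :=
    IsScalarTower.of_algebraMap_eq' (congrArg CommRingCat.Hom.hom hpo.w)
  haveI : Algebra.IsPushout Γ(Y, U) Γ(X, p ⁻¹ᵁ U) Γ(Y', U') Γ(X', p' ⁻¹ᵁ U') :=
    CommRingCat.isPushout_iff_isPushout.mp hpo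
  letI := Groth.L27.Quot.sectionsAction hp.inv U
  obtain ⟨h1, h2⟩ := Groth.L27.Quot.sections_props hp U
  haveI : FaithfulSMul Γ(Y, U) Γ(X, p ⁻¹ᵁ U) :=
    (faithfulSMul_iff_algebraMap_injective _ _).2 (hp.injective U)
  have key : ∀ g, u.appLE (p ⁻¹ᵁ U) (p' ⁻¹ᵁ U') eU ≫ Groth.L27.Quot.act hp' g U' =
      Groth.L27.Quot.act hp.inv g U ≫ u.appLE (p ⁻¹ᵁ U) (p' ⁻¹ᵁ U') eU := fun g => by
    rw [Groth.L27.Quot.act, Groth.L27.Quot.act, Scheme.Hom.appLE_comp_appLE, Scheme.Hom.appLE_comp_appLE,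
      Groth.L27.Quot.appLE_eq_of_eq (hu g)]
  obtain ⟨hinj, hsurj⟩ := invariant_baseChange (A := Γ(Y, U)) (B := Γ(X, p ⁻¹ᵁ U)) (A' := Γ(Y', U'))
    (B' := Γ(X', p' ⁻¹ᵁ U')) G (Groth.L27.Quot.isUnit_card (𝟙 Y) hn U)
    (fun g => (Groth.L27.Quot.act hp' g⁻¹ U').hom)
    (fun g a => ConcreteCategory.congr_hom (Groth.L27.Quot.act_app hp' g⁻¹ U') a)
    (fun g b => ConcreteCategory.congr_hom (key g⁻¹) b)
  exact ⟨hinj, fun s hs => hsurj s fun g => hs g⁻¹⟩

end Groth.L02.SymZeta
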