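/-
Symmetric powers of a disjoint union.
-/
import Groth.Prelude.Def_SymProd
import Groth.Agent.L02.SymZeta.QuotBC
import Mathlib.AlgebraicGeometry.Limits
import Mathlib.Algebra.Order.Antidiag.Prod
import Mathlib.Logic.Equiv.Fin.Basic
import Mathlib.Data.Fintype.EquivFin

set_option autoImplicit false
set_option linter.style.haveILetI false

open CategoryTheory CategoryTheory.Limits AlgebraicGeometry TopologicalSpace

universe u

namespace Groth.L02.SymZeta

noncomputable section

theorem map_fst {W X S W' X' S' : Scheme.{u}} (f₁ : W ⟶ S) (g₁ : X ⟶ S) (f₂ : W' ⟶ S') (g₂ : X' ⟶ S') (i₁ : W ⟶ W')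
    (i₂ : X ⟶ X') (i₃ : S ⟶ S') (e₁ : f₁ ≫ i₃ = i₁ ≫ f₂) (e₂ : g₁ ≫ i₃ = i₂ ≫ g₂) :
    pullback.map f₁ g₁ f₂ g₂ i₁ i₂ i₃ e₁ e₂ ≫ pullback.fst f₂ g₂ = pullback.fst f₁ g₁ ≫ i₁ :=
  pullback.lift_fst _ _ _

theorem map_snd {W X S W' X' S' : Scheme.{u}} (f₁ : W ⟶ S) (g₁ : X ⟶ S) (f₂ : W' ⟶ S') (g₂ : X' ⟶ S') (i₁ : W ⟶ W')
    (i₂ : X ⟶ X') (i₃ : S ⟶ S') (e₁ : f₁ ≫ i₃ = i₁ ≫ f₂) (e₂ : g₁ ≫ i₃ = i₂ ≫ g₂) :
    pullback.map f₁ g₁ f₂ g₂ i₁ i₂ i₃ e₁ e₂ ≫ pullback.snd f₂ g₂ = pullback.snd f₁ g₁ ≫ i₂ :=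
  pullback.lift_snd _ _ _

section Desc

variable {X Y X' Y' T : Scheme.{u}} {G : Type u} [Group G] [Finite G] {ρ : G →* Aut X} {p : X ⟶ Y}

/-- The action on a base change. -/
def bcAct (hp : SGA1.IsQuot ρ p) {u : X' ⟶ X} {p' : X' ⟶ Y'} {t : Y' ⟶ Y} (H : IsPullback u p' p t) :
    G →* Aut X' where
  toFun g :=
    { hom := H.lift (u ≫ (ρ g).hom) p' (by rw [Category.assoc, hp.inv, H.w])
      inv := H.lift (u ≫ (ρ g⁻¹).hom) p' (by rw [Category.assoc, hp.inv, H.w])
      hom_inv_id := H.hom_ext (by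
        rw [Category.assoc, H.lift_fst, ← Category.assoc, H.lift_fst, Category.assoc, Category.id_comp,
          ← Groth.L27.Quot.hom_mul, inv_mul_cancel, Groth.L27.Quot.hom_one, Category.comp_id]) (by
        rw [Category.assoc, H.lift_snd, H.lift_snd, Category.id_comp])
      inv_hom_id := H.hom_ext (by
        rw [Category.assoc, H.lift_fst, ← Category.assoc, H.lift_fst, Category.assoc, Category.id_comp,
          ← Groth.L27.Quot.hom_mul, mul_inv_cancel, Groth.L27.Quot.hom_one, Category.comp_id]) (by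
        rw [Category.assoc, H.lift_snd, H.lift_snd, Category.id_comp]) }
  map_one' := Iso.ext (H.hom_ext (by
    show H.lift _ _ _ ≫ u = 𝟙 X' ≫ u
    rw [H.lift_fst, Groth.L27.Quot.hom_one, Category.comp_id, Category.id_comp]) (by
    show H.lift _ _ _ ≫ p' = 𝟙 X' ≫ p'
    rw [H.lift_snd, Category.id_comp]))
  map_mul' g g' := Iso.ext (H.hom_ext (by
    show H.lift _ _ _ ≫ u = (H.lift _ _ _ ≫ H.lift _ _ _) ≫ u
    rw [H.lift_fst, Category.assoc, H.lift_fst, ← Category.assoc, H.lift_fst, Category.assoc,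
      Groth.L27.Quot.hom_mul]) (by
    show H.lift _ _ _ ≫ p' = (H.lift _ _ _ ≫ H.lift _ _ _) ≫ p'
    rw [H.lift_snd, Category.assoc, H.lift_snd, H.lift_snd]))

/-- Invariant morphisms descend along a base change of a quotient. -/
theorem existsUnique_desc_bc (hp : SGA1.IsQuot ρ p) (hn : IsUnit ((Nat.card G : ℕ) : Γ(Y, ⊤)))
    {u : X' ⟶ X} {p' : X' ⟶ Y'} {t : Y' ⟶ Y} (H : IsPullback u p' p t) (m : X' ⟶ T)
    (hm : ∀ (g : G) (a : X' ⟶ X'), a ≫ u = u ≫ (ρ g).hom → a ≫ p' = p' → a ≫ m = m) :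
    ∃! m' : Y' ⟶ T, p' ≫ m' = m :=
  Groth.L27.Quot.existsUnique_desc
    (isQuot_baseChange hp hn H (bcAct hp H) (fun _ => H.lift_fst _ _ _) (fun _ => H.lift_snd _ _ _)) m
    fun g => hm g _ (H.lift_fst _ _ _) (H.lift_snd _ _ _)

/-- Maps out of a base change of a quotient are determined upstairs. -/
theorem hom_ext_bc (hp : SGA1.IsQuot ρ p) (hn : IsUnit ((Nat.card G : ℕ) : Γ(Y, ⊤)))
    {u : X' ⟶ X} {p' : X' ⟶ Y'} {t : Y' ⟶ Y} (H : IsPullback u p' p t) {h₁ h₂ : Y' ⟶ T}
    (e : p' ≫ h₁ = p' ≫ h₂) : h₁ = h₂ :=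
  Groth.L27.Quot.hom_ext
    (isQuot_baseChange hp hn H (bcAct hp H) (fun _ => H.lift_fst _ _ _) (fun _ => H.lift_snd _ _ _)) e

end Desc

section Pair

variable {X X' Y : Scheme.{u}} (f : X ⟶ Y) (f' : X' ⟶ Y) {a b : ℕ} {A B : Scheme.{u}}
  (q : SymProd.fibPow f a ⟶ A) (g : A ⟶ Y) (hq : SymProd.IsSymProd f a q g)
  (q' : SymProd.fibPow f' b ⟶ B) (g' : B ⟶ Y) (hq' : SymProd.IsSymProd f' b q' g')

/-- The product of two fibre powers. -/
abbrev Pow (a b : ℕ) : Scheme.{u} :=
  pullback (WidePullback.base fun _ : Fin a => f) (WidePullback.base fun _ : Fin b => f')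

/-- The product of two quotient maps. -/
def qq : Pow f f' a b ⟶ pullback g g' :=
  pullback.map _ _ g g' q q' (𝟙 Y) ((Category.comp_id _).trans hq.over.symm)
    ((Category.comp_id _).trans hq'.over.symm)

include hq hq' in
theorem qq_data (hu : ∀ (W : Scheme.{u}) (_ : W ⟶ Y) (n : ℕ), 0 < n → IsUnit ((n : ℕ) : Γ(W, ⊤))) {T : Scheme.{u}} :
    (∀ h₁ h₂ : pullback g g' ⟶ T, qq f f' q g hq q' g' hq' ≫ h₁ = qq f f' q g hq q' g' hq' ≫ h₂ → h₁ = h₂) ∧
    ∀ m : Pow f f' a b ⟶ T,
      (∀ (σ : Equiv.Perm (Fin a)) (τ : Equiv.Perm (Fin b)) (α : Pow f f' a b ⟶ Pow f f' a b),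
        α ≫ pullback.fst _ _ = pullback.fst _ _ ≫ SymProd.permHom f a σ →
        α ≫ pullback.snd _ _ = pullback.snd _ _ ≫ SymProd.permHom f' b τ → α ≫ m = m) →
      ∃ m' : pullback g g' ⟶ T, qq f f' q g hq q' g' hq' ≫ m' = m := by
  let p₁ : Pow f f' a b ⟶ pullback g (WidePullback.base fun _ : Fin b => f') :=
    pullback.map _ _ g _ q (𝟙 _) (𝟙 Y) ((Category.comp_id _).trans hq.over.symm) (by simp)
  let p₂ : pullback g (WidePullback.base fun _ : Fin b => f') ⟶ pullback g g' :=
    pullback.map _ _ g g' (𝟙 _) q' (𝟙 Y) (by simp) ((Category.comp_id _).trans hq'.over.symm)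
  have hqq : qq f f' q g hq q' g' hq' = p₁ ≫ p₂ := by
    apply pullback.hom_ext
    · rw [qq, map_fst, Category.assoc, show p₂ ≫ pullback.fst _ _ = _ from map_fst .., ← Category.assoc,
        show p₁ ≫ pullback.fst _ _ = _ from map_fst .., Category.comp_id]
    · rw [qq, map_snd, Category.assoc, show p₂ ≫ pullback.snd _ _ = _ from map_snd .., ← Category.assoc,
        show p₁ ≫ pullback.snd _ _ = _ from map_snd .., Category.comp_id]
  have H₁ : IsPullback (pullback.fst _ _) p₁ q (pullback.fst g (WidePullback.base fun _ : Fin b => f')) := by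
    refine IsPullback.of_bot ?_ (map_fst ..).symm (IsPullback.of_hasPullback g (WidePullback.base fun _ : Fin b => f'))
    rw [show p₁ ≫ pullback.snd _ _ = pullback.snd _ _ from (map_snd ..).trans (Category.comp_id _), hq.over]
    exact IsPullback.of_hasPullback _ _
  have H₂ : IsPullback (pullback.snd _ _) p₂ q' (pullback.snd g g') := by
    refine IsPullback.of_bot ?_ (map_snd ..).symm (IsPullback.of_hasPullback g g').flip
    rw [show p₂ ≫ pullback.fst _ _ = pullback.fst _ _ from (map_fst ..).trans (Category.comp_id _), hq'.over]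
    exact (IsPullback.of_hasPullback _ _).flip
  have hnA : IsUnit ((Nat.card (ULift.{u} (Equiv.Perm (Fin a))) : ℕ) : Γ(A, ⊤)) := hu A g _ Nat.card_pos
  have hnB : IsUnit ((Nat.card (ULift.{u} (Equiv.Perm (Fin b))) : ℕ) : Γ(B, ⊤)) := hu B g' _ Nat.card_pos
  refine ⟨fun h₁ h₂ e => ?_, fun m hm => ?_⟩
  · rw [hqq, Category.assoc, Category.assoc] at e
    exact hom_ext_bc hq'.isQuot hnB H₂ (hom_ext_bc hq.isQuot hnA H₁ e)
  · obtain ⟨m₁, hm₁, -⟩ := existsUnique_desc_bc hq.isQuot hnA H₁ m fun σ α hα hα' => by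
      refine hm σ.down 1 α hα ?_
      have hs : p₁ ≫ pullback.snd _ _ = pullback.snd _ _ := (map_snd ..).trans (Category.comp_id _)
      have h := congrArg (· ≫ pullback.snd _ _) hα'
      simp only [Category.assoc, hs] at h
      rw [h, SymProd.permHom_one, Category.comp_id]
    obtain ⟨m₂, hm₂, -⟩ := existsUnique_desc_bc hq'.isQuot hnB H₂ m₁ fun τ α hα hα' => by
      apply hom_ext_bc hq.isQuot hnA H₁
      have hfst : α ≫ pullback.fst _ _ = pullback.fst _ _ := by
        have hs : p₂ ≫ pullback.fst _ _ = pullback.fst _ _ := (map_fst ..).trans (Category.comp_id _)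
        have h := congrArg (· ≫ pullback.fst _ _) hα'
        simpa only [Category.assoc, hs] using h
      let β : Pow f f' a b ⟶ Pow f f' a b :=
        pullback.map _ _ _ _ (𝟙 _) (SymProd.permHom f' b τ.down) (𝟙 Y) ((Category.comp_id _).trans (Category.id_comp _).symm)
          ((Category.comp_id _).trans (SymProd.permHom_base f' b τ.down).symm)
      have hβ : p₁ ≫ α = β ≫ p₁ := by
        apply pullback.hom_ext
        · rw [Category.assoc, hfst, Category.assoc, show p₁ ≫ pullback.fst _ _ = _ from map_fst .., ← Category.assoc β,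
            show β ≫ pullback.fst _ _ = _ from map_fst .., Category.comp_id]
        · rw [Category.assoc, hα, Category.assoc, ← Category.assoc p₁, show p₁ ≫ pullback.snd _ _ = _ from map_snd ..,
            Category.comp_id, show β ≫ pullback.snd _ _ = _ from map_snd ..]
          rfl
      rw [← Category.assoc, hβ, Category.assoc, hm₁]
      exact hm 1 τ.down β ((map_fst ..).trans (by rw [SymProd.permHom_one])) (map_snd ..)
    exact ⟨m₂, by rw [hqq, Category.assoc, hm₂, hm₁]⟩

end Pair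

section Pieces

variable {X X' Y : Scheme.{u}} (f : X ⟶ Y) (f' : X' ⟶ Y) (n : ℕ)

/-- The two pieces of a coproduct. -/
def side (b : Bool) : (X ⨿ X').Opens :=
  cond b (coprod.inl : X ⟶ X ⨿ X').opensRange (coprod.inr : X' ⟶ X ⨿ X').opensRange

theorem exists_side (x : (X ⨿ X' : Scheme.{u})) : ∃ b, x ∈ side b := by
  rcases ((isCompl_range_inl_inr X X').2.eq_top).ge (Set.mem_univ x) with h | h
  · exact ⟨true, h⟩
  · exact ⟨false, h⟩

theorem side_unique {x : (X ⨿ X' : Scheme.{u})} {b b' : Bool} (h : x ∈ side b) (h' : x ∈ side b') : b = b' := by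
  have hd := (isCompl_range_inl_inr X X').1.le_bot
  cases b <;> cases b'
  · rfl
  · exact (hd ⟨h', h⟩).elim
  · exact (hd ⟨h, h'⟩).elim
  · rfl

/-- The fibre power of the coproduct. -/
abbrev Big : Scheme.{u} := SymProd.fibPow (coprod.desc f f') n

/-- The piece of the fibre power of the coproduct with prescribed summand in every factor. -/
def piece (c : Fin n → Bool) : (Big f f' n).Opens :=
  ⟨{x | ∀ i, (WidePullback.π (fun _ : Fin n => coprod.desc f f') i : Big f f' n ⟶ X ⨿ X') x ∈ side (c i)}, by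
    rw [Set.setOf_forall]
    exact isOpen_iInter_of_finite fun i =>
      (side (c i)).2.preimage (WidePullback.π (fun _ : Fin n => coprod.desc f f') i).continuous⟩

variable {n}

/-- The component in the first summand. -/
def compX (c : Fin n → Bool) (i : Fin n) (h : c i = true) : (piece f f' n c).toScheme ⟶ X :=
  IsOpenImmersion.lift coprod.inl ((piece f f' n c).ι ≫ WidePullback.π _ i) (by
    rintro _ ⟨z, rfl⟩
    have := z.2 i
    rw [h] at this
    exact this)

/-- The component in the second summand. -/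
def compX' (c : Fin n → Bool) (i : Fin n) (h : c i = false) : (piece f f' n c).toScheme ⟶ X' :=
  IsOpenImmersion.lift coprod.inr ((piece f f' n c).ι ≫ WidePullback.π _ i) (by
    rintro _ ⟨z, rfl⟩
    have := z.2 i
    rw [h] at this
    exact this)

@[reassoc]
theorem compX_inl (c : Fin n → Bool) (i : Fin n) (h : c i = true) :
    compX f f' c i h ≫ coprod.inl = (piece f f' n c).ι ≫ WidePullback.π _ i :=
  IsOpenImmersion.lift_fac _ _ _

@[reassoc]
theorem compX'_inr (c : Fin n → Bool) (i : Fin n) (h : c i = false) :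
    compX' f f' c i h ≫ coprod.inr = (piece f f' n c).ι ≫ WidePullback.π _ i :=
  IsOpenImmersion.lift_fac _ _ _

theorem compX_f (c : Fin n → Bool) (i : Fin n) (h : c i = true) :
    compX f f' c i h ≫ f = (piece f f' n c).ι ≫ WidePullback.base _ := by
  rw [← WidePullback.π_arrow (fun _ : Fin n => coprod.desc f f') i, ← compX_inl_assoc f f' c i h, coprod.inl_desc]

theorem compX'_f (c : Fin n → Bool) (i : Fin n) (h : c i = false) :
    compX' f f' c i h ≫ f' = (piece f f' n c).ι ≫ WidePullback.base _ := by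
  rw [← WidePullback.π_arrow (fun _ : Fin n => coprod.desc f f') i, ← compX'_inr_assoc f f' c i h, coprod.inr_desc]

variable {a b : ℕ}

/-- Sorting a piece. -/
def srt (c : Fin n → Bool) (e : Fin a ⊕ Fin b ≃ Fin n) (he : ∀ z, c (e z) = z.isLeft) :
    (piece f f' n c).toScheme ⟶ Pow f f' a b :=
  pullback.lift
    (WidePullback.lift ((piece f f' n c).ι ≫ WidePullback.base _) (fun i => compX f f' c (e (.inl i)) (he (.inl i)))
      (fun i => compX_f f f' c _ _))
    (WidePullback.lift ((piece f f' n c).ι ≫ WidePullback.base _) (fun i => compX' f f' c (e (.inr i)) (he (.inr i)))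
      (fun i => compX'_f f f' c _ _))
    (by rw [WidePullback.lift_base, WidePullback.lift_base])

/-- Mixing the factors. -/
def mix (e : Fin a ⊕ Fin b ≃ Fin n) : Pow f f' a b ⟶ Big f f' n :=
  WidePullback.lift (pullback.fst _ _ ≫ WidePullback.base _)
    (fun i => (e.symm i).elim (fun k => pullback.fst _ _ ≫ WidePullback.π _ k ≫ coprod.inl)
      (fun k => pullback.snd _ _ ≫ WidePullback.π _ k ≫ coprod.inr))
    (fun i => by
      rcases e.symm i with k | k
      · simp only [Sum.elim_inl, Category.assoc, coprod.inl_desc]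
        rw [WidePullback.π_arrow]
      · simp only [Sum.elim_inr, Category.assoc, coprod.inr_desc]
        rw [WidePullback.π_arrow, ← pullback.condition])

theorem mix_π_inl (e : Fin a ⊕ Fin b ≃ Fin n) (k : Fin a) :
    mix f f' e ≫ WidePullback.π _ (e (.inl k)) = pullback.fst _ _ ≫ WidePullback.π _ k ≫ coprod.inl := by
  rw [mix, WidePullback.lift_π, Equiv.symm_apply_apply, Sum.elim_inl]

theorem mix_π_inr (e : Fin a ⊕ Fin b ≃ Fin n) (k : Fin b) :
    mix f f' e ≫ WidePullback.π _ (e (.inr k)) = pullback.snd _ _ ≫ WidePullback.π _ k ≫ coprod.inr := by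
  rw [mix, WidePullback.lift_π, Equiv.symm_apply_apply, Sum.elim_inr]

theorem mix_base (e : Fin a ⊕ Fin b ≃ Fin n) :
    mix f f' e ≫ WidePullback.base _ = pullback.fst _ _ ≫ WidePullback.base _ :=
  WidePullback.lift_base _ _ _ _

theorem mix_ext {Z : Scheme.{u}} (e : Fin a ⊕ Fin b ≃ Fin n) {h₁ h₂ : Z ⟶ Big f f' n}
    (hb : h₁ ≫ WidePullback.base _ = h₂ ≫ WidePullback.base _)
    (h : ∀ z, h₁ ≫ WidePullback.π _ (e z) = h₂ ≫ WidePullback.π _ (e z)) : h₁ = h₂ :=
  WidePullback.hom_ext _ _ _ (fun i => by simpa using h (e.symm i)) hb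

theorem srt_mix (c : Fin n → Bool) (e : Fin a ⊕ Fin b ≃ Fin n) (he : ∀ z, c (e z) = z.isLeft) :
    srt f f' c e he ≫ mix f f' e = (piece f f' n c).ι := by
  refine mix_ext f f' e ?_ fun z => ?_
  · rw [Category.assoc, mix_base, srt, pullback.lift_fst_assoc, WidePullback.lift_base]
  · rcases z with k | k
    · rw [Category.assoc, mix_π_inl, srt, pullback.lift_fst_assoc, WidePullback.lift_π_assoc, compX_inl]
    · rw [Category.assoc, mix_π_inr, srt, pullback.lift_snd_assoc, WidePullback.lift_π_assoc, compX'_inr]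

theorem mix_mem (c : Fin n → Bool) (e : Fin a ⊕ Fin b ≃ Fin n) (he : ∀ z, c (e z) = z.isLeft) (x : Pow f f' a b) :
    mix f f' e x ∈ piece f f' n c := by
  intro i
  obtain ⟨z, rfl⟩ := e.surjective i
  rw [he, ← Scheme.Hom.comp_apply]
  rcases z with k | k
  · rw [mix_π_inl]
    exact ⟨(pullback.fst (WidePullback.base fun _ : Fin a => f) (WidePullback.base fun _ : Fin b => f') ≫
      WidePullback.π (fun _ : Fin a => f) k : Pow f f' a b ⟶ X) x, rfl⟩
  · rw [mix_π_inr]
    exact ⟨(pullback.snd (WidePullback.base fun _ : Fin a => f) (WidePullback.base fun _ : Fin b => f') ≫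
      WidePullback.π (fun _ : Fin b => f') k : Pow f f' a b ⟶ X') x, rfl⟩

/-- The mixing map into its piece. -/
def unsort (c : Fin n → Bool) (e : Fin a ⊕ Fin b ≃ Fin n) (he : ∀ z, c (e z) = z.isLeft) :
    Pow f f' a b ⟶ (piece f f' n c).toScheme :=
  IsOpenImmersion.lift (piece f f' n c).ι (mix f f' e) (by
    rw [Scheme.Opens.range_ι]
    rintro _ ⟨x, rfl⟩
    exact mix_mem f f' c e he x)

theorem unsort_ι (c : Fin n → Bool) (e : Fin a ⊕ Fin b ≃ Fin n) (he : ∀ z, c (e z) = z.isLeft) :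
    unsort f f' c e he ≫ (piece f f' n c).ι = mix f f' e :=
  IsOpenImmersion.lift_fac _ _ _

theorem unsort_srt (c : Fin n → Bool) (e : Fin a ⊕ Fin b ≃ Fin n) (he : ∀ z, c (e z) = z.isLeft) :
    unsort f f' c e he ≫ srt f f' c e he = 𝟙 _ := by
  apply pullback.hom_ext
  · rw [Category.assoc, srt, pullback.lift_fst, Category.id_comp]
    refine WidePullback.hom_ext _ _ _ (fun k => ?_) ?_
    · rw [Category.assoc, WidePullback.lift_π, ← cancel_mono (coprod.inl : X ⟶ X ⨿ X'), Category.assoc,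
        compX_inl, ← Category.assoc, unsort_ι, mix_π_inl, Category.assoc]
    · rw [Category.assoc, WidePullback.lift_base, ← Category.assoc, unsort_ι, mix_base]
  · rw [Category.assoc, srt, pullback.lift_snd, Category.id_comp]
    refine WidePullback.hom_ext _ _ _ (fun k => ?_) ?_
    · rw [Category.assoc, WidePullback.lift_π, ← cancel_mono (coprod.inr : X' ⟶ X ⨿ X'), Category.assoc,
        compX'_inr, ← Category.assoc, unsort_ι, mix_π_inr, Category.assoc]
    · rw [Category.assoc, WidePullback.lift_base, ← Category.assoc, unsort_ι, mix_base, pullback.condition]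

/-- Two sortings of a piece differ by permutations of the two groups of factors. -/
theorem exists_perm_srt (c : Fin n → Bool) (e e' : Fin a ⊕ Fin b ≃ Fin n) (he : ∀ z, c (e z) = z.isLeft)
    (he' : ∀ z, c (e' z) = z.isLeft) :
    ∃ (σ : Equiv.Perm (Fin a)) (τ : Equiv.Perm (Fin b)),
      srt f f' c e' he' ≫ pullback.fst _ _ = srt f f' c e he ≫ pullback.fst _ _ ≫ SymProd.permHom f a σ ∧
      srt f f' c e' he' ≫ pullback.snd _ _ = srt f f' c e he ≫ pullback.snd _ _ ≫ SymProd.permHom f' b τ := by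
  have key : ∀ z, (e.symm (e' z)).isLeft = z.isLeft := fun z => by
    rw [← he (e.symm (e' z)), Equiv.apply_symm_apply, he']
  choose r hr using fun i => Sum.isLeft_iff.1 (key (.inl i))
  choose r' hr' using fun i => Sum.isRight_iff.1 (show (e.symm (e' (.inr i))).isRight = true by
    rw [← Sum.bnot_isLeft, key]; rfl)
  have hinj : Function.Injective r := fun i j h =>
    Sum.inl_injective (e'.injective (e.symm.injective ((hr i).trans (by rw [h, hr j]))))
  have hinj' : Function.Injective r' := fun i j h =>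
    Sum.inr_injective (e'.injective (e.symm.injective ((hr' i).trans (by rw [h, hr' j]))))
  refine ⟨(Equiv.ofBijective r hinj.bijective_of_finite).symm,
    (Equiv.ofBijective r' hinj'.bijective_of_finite).symm, ?_, ?_⟩
  · rw [srt, srt, pullback.lift_fst, pullback.lift_fst_assoc]
    refine WidePullback.hom_ext _ _ _ (fun k => ?_) ?_
    · rw [Category.assoc, SymProd.permHom_π, WidePullback.lift_π, WidePullback.lift_π,
        ← cancel_mono (coprod.inl : X ⟶ X ⨿ X'), compX_inl, compX_inl]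
      congr 2
      rw [Equiv.symm_symm, Equiv.ofBijective_apply, ← hr k, Equiv.apply_symm_apply]
    · rw [Category.assoc, SymProd.permHom_base, WidePullback.lift_base, WidePullback.lift_base]
  · rw [srt, srt, pullback.lift_snd, pullback.lift_snd_assoc]
    refine WidePullback.hom_ext _ _ _ (fun k => ?_) ?_
    · rw [Category.assoc, SymProd.permHom_π, WidePullback.lift_π, WidePullback.lift_π,
        ← cancel_mono (coprod.inr : X' ⟶ X ⨿ X'), compX'_inr, compX'_inr]
      congr 2
      rw [Equiv.symm_symm, Equiv.ofBijective_apply, ← hr' k, Equiv.apply_symm_apply]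
    · rw [Category.assoc, SymProd.permHom_base, WidePullback.lift_base, WidePullback.lift_base]

/-- Every choice of summands can be sorted. -/
theorem exists_sorting (c : Fin n → Bool) :
    ∃ (a b : ℕ) (e : Fin a ⊕ Fin b ≃ Fin n), a + b = n ∧ ∀ z, c (e z) = z.isLeft := by
  classical
  let e₁ := Fintype.equivFin {i // c i = true}
  let e₂ := Fintype.equivFin {i // ¬ c i = true}
  let e := (Equiv.sumCongr e₁.symm e₂.symm).trans (Equiv.sumCompl fun i => c i = true)
  refine ⟨_, _, e, by simpa using Fintype.card_congr e, fun z => ?_⟩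
  rcases z with k | k
  · exact (e₁.symm k).2
  · exact Bool.eq_false_iff.2 (e₂.symm k).2

theorem sorting_unique {a' b' : ℕ} (c : Fin n → Bool) (e : Fin a ⊕ Fin b ≃ Fin n) (he : ∀ z, c (e z) = z.isLeft)
    (e' : Fin a' ⊕ Fin b' ≃ Fin n) (he' : ∀ z, c (e' z) = z.isLeft) : a = a' ∧ b = b' := by
  have h : ∀ {a b : ℕ} (e : Fin a ⊕ Fin b ≃ Fin n), (∀ z, c (e z) = z.isLeft) →
      a = Fintype.card {i // c i = true} := fun {a b} e he => by
    let φ : Fin a → {i // c i = true} := fun k => ⟨e (.inl k), he (.inl k)⟩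
    have hb : Function.Bijective φ := by
      refine ⟨fun k l h => Sum.inl_injective (e.injective (congrArg Subtype.val h)), fun i => ?_⟩
      obtain ⟨z | z, hz⟩ := e.surjective i.1
      · exact ⟨z, Subtype.ext hz⟩
      · exact absurd (hz ▸ i.2) (by rw [he]; simp)
    simpa using Fintype.card_congr (Equiv.ofBijective φ hb)
  have ha : a = a' := (h e he).trans (h e' he').symm
  have := Fintype.card_congr (e.trans e'.symm)
  simp only [Fintype.card_sum, Fintype.card_fin] at this
  exact ⟨ha, by omega⟩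

end Pieces

end

end Groth.L02.SymZeta
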