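/-
Classes of Zariski locally trivial fibrations in the Grothendieck ring.
-/
import Groth.Prelude.Def_K0Var
import Mathlib.AlgebraicGeometry.IdealSheaf.Subscheme
import Mathlib.AlgebraicGeometry.Noetherian
import Mathlib.AlgebraicGeometry.Restrict

set_option autoImplicit false
set_option linter.style.haveILetI false
set_option backward.isDefEq.respectTransparency false

open CategoryTheory CategoryTheory.Limits AlgebraicGeometry TopologicalSpace

universe u

noncomputable section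

namespace Groth.L02.SymZeta

variable {B X Y F : Scheme.{u}} (pY : Y ⟶ B) [LocallyOfFiniteType pY] [QuasiCompact pY]
  (pF : F ⟶ B) [LocallyOfFiniteType pF] [QuasiCompact pF]
  (f : X ⟶ Y) [LocallyOfFiniteType f] [QuasiCompact f]

/-- The multiplicativity property of the part of `f` over `g`. -/
def FibProp {Z : Scheme.{u}} (g : Z ⟶ Y) [LocallyOfFiniteType g] [QuasiCompact g] : Prop :=
  K0Var.cl (pullback.snd f g ≫ g ≫ pY) = K0Var.cl (g ≫ pY) * K0Var.cl pF

theorem fibProp_of_trivial {Z : Scheme.{u}} (g : Z ⟶ Y) [LocallyOfFiniteType g] [QuasiCompact g]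
    (U : Y.Opens) (e : (f ⁻¹ᵁ U).toScheme ≅ pullback (U.ι ≫ pY) pF)
    (he : e.hom ≫ pullback.fst (U.ι ≫ pY) pF = f ∣_ U) (hg : Set.range g ⊆ U) : FibProp pY pF f g := by
  let l : Z ⟶ U.toScheme := IsOpenImmersion.lift U.ι g (by rwa [Scheme.Opens.range_ι])
  have hl : l ≫ U.ι = g := IsOpenImmersion.lift_fac _ _ _
  have h1 : IsPullback (pullback.fst (f ∣_ U) l ≫ (f ⁻¹ᵁ U).ι) (pullback.snd (f ∣_ U) l) f g := by
    rw [← hl]
    exact (IsPullback.of_hasPullback (f ∣_ U) l).paste_horiz (isPullback_morphismRestrict f U).flip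
  have h2 : IsPullback (pullback.fst (f ∣_ U) l ≫ e.hom) (pullback.snd (f ∣_ U) l)
      (pullback.fst (U.ι ≫ pY) pF) l :=
    (IsPullback.of_hasPullback (f ∣_ U) l).of_iso (Iso.refl _) e (Iso.refl _) (Iso.refl _)
      (by simp) (by simp) (by simp [he]) (by simp)
  have h3 : IsPullback ((pullback.fst (f ∣_ U) l ≫ e.hom) ≫ pullback.snd (U.ι ≫ pY) pF)
      (pullback.snd (f ∣_ U) l) pF (g ≫ pY) := by
    rw [← hl, Category.assoc]
    exact h2.paste_horiz (IsPullback.of_hasPullback (U.ι ≫ pY) pF).flip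
  let α : pullback f g ≅ pullback (g ≫ pY) pF := h1.isoPullback.symm ≪≫ h3.flip.isoPullback
  rw [FibProp, ← K0Var.cl_mul (g ≫ pY) pF]
  refine K0Var.cl_congr _ _ α ?_
  show (h1.isoPullback.inv ≫ h3.flip.isoPullback.hom) ≫ pullback.fst (g ≫ pY) pF ≫ g ≫ pY = _
  rw [Category.assoc, h3.flip.isoPullback_hom_fst_assoc, ← Category.assoc, h1.isoPullback_inv_snd]

theorem fibProp_of_scissor {Z C : Scheme.{u}} (g : Z ⟶ Y) [LocallyOfFiniteType g] [QuasiCompact g]
    (c : C ⟶ Z) [IsClosedImmersion c] (V : Z.Opens) [QuasiCompact V.ι]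
    (hr : Set.range c = (V : Set Z)ᶜ) (hC : FibProp pY pF f (c ≫ g)) (hV : FibProp pY pF f (V.ι ≫ g)) :
    FibProp pY pF f g := by
  let c' : pullback f (c ≫ g) ⟶ pullback f g :=
    pullback.map _ _ _ _ (𝟙 X) c (𝟙 Y) (by simp) (by simp)
  let v' : pullback f (V.ι ≫ g) ⟶ pullback f g :=
    pullback.map _ _ _ _ (𝟙 X) V.ι (𝟙 Y) (by simp) (by simp)
  have hc' : IsPullback c' (pullback.snd f (c ≫ g)) (pullback.snd f g) c := by
    refine IsPullback.of_right (h₁₂ := pullback.fst f g) (v₁₃ := f) (h₂₂ := g) ?_ (pullback.lift_snd _ _ _)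
      (IsPullback.of_hasPullback f g)
    rw [show c' ≫ pullback.fst f g = pullback.fst f (c ≫ g) from (pullback.lift_fst _ _ _).trans (Category.comp_id _)]
    exact IsPullback.of_hasPullback _ _
  have hv' : IsPullback v' (pullback.snd f (V.ι ≫ g)) (pullback.snd f g) V.ι := by
    refine IsPullback.of_right (h₁₂ := pullback.fst f g) (v₁₃ := f) (h₂₂ := g) ?_ (pullback.lift_snd _ _ _)
      (IsPullback.of_hasPullback f g)
    rw [show v' ≫ pullback.fst f g = pullback.fst f (V.ι ≫ g) from (pullback.lift_fst _ _ _).trans (Category.comp_id _)]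
    exact IsPullback.of_hasPullback _ _
  haveI : IsClosedImmersion c' := MorphismProperty.of_isPullback hc'.flip ‹IsClosedImmersion c›
  haveI : IsOpenImmersion v' := MorphismProperty.of_isPullback hv'.flip (inferInstanceAs (IsOpenImmersion V.ι))
  haveI : QuasiCompact v' := MorphismProperty.of_isPullback hv'.flip ‹QuasiCompact V.ι›
  have hr' : Set.range c' = (Set.range v')ᶜ := by
    ext x
    have e1 : ∀ {T : Scheme.{u}} {t : T ⟶ Z} {t' : pullback f (t ≫ g) ⟶ pullback f g}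
        (sq : IsPullback t' (pullback.snd f (t ≫ g)) (pullback.snd f g) t),
        x ∈ Set.range t' ↔ pullback.snd f g x ∈ Set.range t := fun {T t t'} sq => by
      constructor
      · rintro ⟨y, rfl⟩
        exact ⟨pullback.snd f (t ≫ g) y, by rw [← Scheme.Hom.comp_apply, ← Scheme.Hom.comp_apply, sq.w]⟩
      · rintro ⟨y, hy⟩
        obtain ⟨z, hz, -⟩ := Scheme.Pullback.exists_preimage_pullback (f := pullback.snd f g) (g := t) x y hy.symm
        exact ⟨sq.isoPullback.inv z, by rw [← Scheme.Hom.comp_apply, sq.isoPullback_inv_fst]; exact hz⟩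
    rw [Set.mem_compl_iff, e1 hc', e1 hv', hr, Scheme.Opens.range_ι, Set.mem_compl_iff]
  have hsplit := K0Var.cl_scissor (pullback.snd f g ≫ g ≫ pY) c' v' hr'
  have hbase := K0Var.cl_scissor (g ≫ pY) c V.ι (by rw [hr, Scheme.Opens.range_ι])
  rw [FibProp] at hC hV ⊢
  rw [hsplit, hbase, add_mul]
  congr 1
  · calc K0Var.cl (c' ≫ pullback.snd f g ≫ g ≫ pY) = K0Var.cl (pullback.snd f (c ≫ g) ≫ (c ≫ g) ≫ pY) :=
          K0Var.cl_congr _ _ (Iso.refl _) (by simp only [Iso.refl_hom, Category.id_comp, reassoc_of% hc'.w, Category.assoc])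
      _ = K0Var.cl ((c ≫ g) ≫ pY) * K0Var.cl pF := hC
      _ = _ := by rw [K0Var.cl_congr ((c ≫ g) ≫ pY) (c ≫ g ≫ pY) (Iso.refl _) (by simp)]
  · calc K0Var.cl (v' ≫ pullback.snd f g ≫ g ≫ pY) = K0Var.cl (pullback.snd f (V.ι ≫ g) ≫ (V.ι ≫ g) ≫ pY) :=
          K0Var.cl_congr _ _ (Iso.refl _) (by simp only [Iso.refl_hom, Category.id_comp, reassoc_of% hv'.w, Category.assoc])
      _ = K0Var.cl ((V.ι ≫ g) ≫ pY) * K0Var.cl pF := hV
      _ = _ := by rw [K0Var.cl_congr ((V.ι ≫ g) ≫ pY) (V.ι ≫ g ≫ pY) (Iso.refl _) (by simp)]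

theorem fibProp_of_cover [IsNoetherian Y]
    (hf : ∀ y : Y, ∃ (U : Y.Opens) (e : (f ⁻¹ᵁ U).toScheme ≅ pullback (U.ι ≫ pY) pF),
      y ∈ U ∧ e.hom ≫ pullback.fst (U.ι ≫ pY) pF = f ∣_ U) (s : Finset Y) :
    ∀ (Z : Scheme.{u}) (g : Z ⟶ Y) [IsClosedImmersion g],
      Set.range g ⊆ ⋃ y ∈ s, ((hf y).choose : Set Y) → FibProp pY pF f g := by
  classical
  induction s using Finset.induction_on with
  | empty =>
    intro Z g _ h
    haveI : IsEmpty Z := ⟨fun z => by simpa using h ⟨z, rfl⟩⟩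
    haveI : IsEmpty (pullback f g : Scheme.{u}) := ⟨fun z => IsEmpty.false ((pullback.snd f g) z)⟩
    rw [FibProp, show K0Var.cl (g ≫ pY) = 0 from K0Var.Gen.cl_eq_zero_of_isEmpty (K0Var.Gen.mk Z (g ≫ pY)), zero_mul]
    exact K0Var.Gen.cl_eq_zero_of_isEmpty (K0Var.Gen.mk (pullback f g) (pullback.snd f g ≫ g ≫ pY))
  | @insert y s hy ih =>
    intro Z g _ h
    obtain ⟨e, hyU, he⟩ := (hf y).choose_spec
    let V : Z.Opens := g ⁻¹ᵁ (hf y).choose
    let I : Z.IdealSheafData := Scheme.IdealSheafData.vanishingIdeal ⟨(V : Set Z)ᶜ, V.2.isClosed_compl⟩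
    have hI : Set.range I.subschemeι = (V : Set Z)ᶜ := by
      rw [Scheme.IdealSheafData.range_subschemeι, Scheme.IdealSheafData.coe_support_vanishingIdeal]; rfl
    haveI : IsLocallyNoetherian Z := LocallyOfFiniteType.isLocallyNoetherian g
    haveI : NoetherianSpace Z := g.isEmbedding.isInducing.noetherianSpace
    haveI : NoetherianSpace V.toScheme := V.ι.isEmbedding.isInducing.noetherianSpace
    refine fibProp_of_scissor pY pF f g I.subschemeι V hI (ih _ _ ?_) ?_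
    · rintro _ ⟨z, rfl⟩
      have hz : I.subschemeι z ∈ (V : Set Z)ᶜ := hI ▸ Set.mem_range_self z
      obtain ⟨y', hy', hz'⟩ := Set.mem_iUnion₂.1 (h ⟨I.subschemeι z, rfl⟩)
      rcases Finset.mem_insert.1 hy' with rfl | hy'
      · exact absurd hz' hz
      · exact Set.mem_iUnion₂.2 ⟨y', hy', hz'⟩
    · refine fibProp_of_trivial pY pF f (V.ι ≫ g) _ e he ?_
      rintro _ ⟨z, rfl⟩
      rw [Scheme.Hom.comp_apply]
      exact z.2

theorem cl_eq_of_locallyTrivial [IsNoetherian Y]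
    (hf : ∀ y : Y, ∃ (U : Y.Opens) (e : (f ⁻¹ᵁ U).toScheme ≅ pullback (U.ι ≫ pY) pF),
      y ∈ U ∧ e.hom ≫ pullback.fst (U.ι ≫ pY) pF = f ∣_ U) :
    K0Var.cl (f ≫ pY) = K0Var.cl pY * K0Var.cl pF := by
  obtain ⟨s, hs⟩ := isCompact_univ.elim_finite_subcover (fun y : Y => ((hf y).choose : Set Y))
    (fun y => (hf y).choose.2) (fun y _ => Set.mem_iUnion.2 ⟨y, (hf y).choose_spec.choose_spec.1⟩)
  have h := fibProp_of_cover pY pF f hf s Y (𝟙 Y) (fun y _ => hs (Set.mem_univ y))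
  rw [FibProp] at h
  rw [K0Var.cl_congr (f ≫ pY) (pullback.snd f (𝟙 Y) ≫ 𝟙 Y ≫ pY) (asIso (pullback.fst f (𝟙 Y))).symm
    (by rw [Iso.symm_hom, asIso_inv, IsIso.inv_comp_eq, ← pullback.condition_assoc]), h,
    K0Var.cl_congr (𝟙 Y ≫ pY) pY (Iso.refl _) (by simp)]

end Groth.L02.SymZeta
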