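/-
Sym^n of a disjoint union is the disjoint union of the products of symmetric powers.
-/
import Groth.Agent.L02.SymZeta.Decomp
import Mathlib.AlgebraicGeometry.Cover.Open

set_option autoImplicit false
set_option linter.style.haveILetI false

open CategoryTheory CategoryTheory.Limits AlgebraicGeometry TopologicalSpace

universe u

namespace Groth.L02.SymZeta

noncomputable section

variable {X X' Y : Scheme.{u}} (f : X ⟶ Y) (f' : X' ⟶ Y)
  (A : ℕ → Scheme.{u}) (q : ∀ m, SymProd.fibPow f m ⟶ A m) (g : ∀ m, A m ⟶ Y)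
  (hA : ∀ m, SymProd.IsSymProd f m (q m) (g m))
  (B : ℕ → Scheme.{u}) (q' : ∀ m, SymProd.fibPow f' m ⟶ B m) (g' : ∀ m, B m ⟶ Y)
  (hB : ∀ m, SymProd.IsSymProd f' m (q' m) (g' m))
  (n : ℕ)

/-- The summands. -/
abbrev Summand (p : {p : ℕ × ℕ // p ∈ Finset.antidiagonal n}) : Scheme.{u} := pullback (g p.1.1) (g' p.1.2)

/-- The composite of sorting and projecting to the summand. -/
def sortMap (c : Fin n → Bool) (a b : ℕ) (h : a + b = n) (e : Fin a ⊕ Fin b ≃ Fin n)
    (he : ∀ z, c (e z) = z.isLeft) : (piece f f' n c).toScheme ⟶ ∐ Summand A g B g' n :=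
  srt f f' c e he ≫ qq f f' (q a) (g a) (hA a) (q' b) (g' b) (hB b) ≫
    Sigma.ι (Summand A g B g' n) ⟨(a, b), Finset.mem_antidiagonal.2 h⟩

theorem qq_invariant (a b : ℕ) (α : Pow f f' a b ⟶ Pow f f' a b) (σ : Equiv.Perm (Fin a)) (τ : Equiv.Perm (Fin b))
    (h₁ : α ≫ pullback.fst _ _ = pullback.fst _ _ ≫ SymProd.permHom f a σ)
    (h₂ : α ≫ pullback.snd _ _ = pullback.snd _ _ ≫ SymProd.permHom f' b τ) :
    α ≫ qq f f' (q a) (g a) (hA a) (q' b) (g' b) (hB b) = qq f f' (q a) (g a) (hA a) (q' b) (g' b) (hB b) := by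
  have iA : SymProd.permHom f a σ ≫ q a = q a := (hA a).isQuot.inv (ULift.up σ)
  have iB : SymProd.permHom f' b τ ≫ q' b = q' b := (hB b).isQuot.inv (ULift.up τ)
  apply pullback.hom_ext
  · rw [Category.assoc, qq, map_fst, reassoc_of% h₁, iA]
  · rw [Category.assoc, qq, map_snd, reassoc_of% h₂, iB]

theorem sortMap_congr (c : Fin n → Bool) (a b : ℕ) (h : a + b = n) (e : Fin a ⊕ Fin b ≃ Fin n)
    (he : ∀ z, c (e z) = z.isLeft) (a' b' : ℕ) (h' : a' + b' = n) (e' : Fin a' ⊕ Fin b' ≃ Fin n)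
    (he' : ∀ z, c (e' z) = z.isLeft) :
    sortMap f f' A q g hA B q' g' hB n c a b h e he = sortMap f f' A q g hA B q' g' hB n c a' b' h' e' he' := by
  obtain ⟨rfl, rfl⟩ := sorting_unique c e he e' he'
  obtain ⟨σ, τ, h₁, h₂⟩ := exists_perm_srt f f' c e e' he he'
  let α : Pow f f' a b ⟶ Pow f f' a b :=
    pullback.map _ _ _ _ (SymProd.permHom f a σ) (SymProd.permHom f' b τ) (𝟙 Y)
      ((Category.comp_id _).trans (SymProd.permHom_base f a σ).symm)
      ((Category.comp_id _).trans (SymProd.permHom_base f' b τ).symm)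
  have hsrt : srt f f' c e' he' = srt f f' c e he ≫ α := by
    apply pullback.hom_ext
    · rw [h₁, Category.assoc]; exact congrArg (_ ≫ ·) (map_fst ..).symm
    · rw [h₂, Category.assoc]; exact congrArg (_ ≫ ·) (map_snd ..).symm
  rw [sortMap, sortMap, hsrt, Category.assoc,
    reassoc_of% (qq_invariant f f' A q g hA B q' g' hB a b α σ τ (map_fst ..) (map_snd ..))]

theorem permHom_mix {a b : ℕ} (e : Fin a ⊕ Fin b ≃ Fin n) (e' : Fin a ⊕ Fin b ≃ Fin n) :
    mix f f' e ≫ SymProd.permHom (coprod.desc f f') n (e.symm.trans e') = mix f f' e' := by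
  refine mix_ext f f' e' ?_ fun z => ?_
  · rw [Category.assoc, SymProd.permHom_base, mix_base, mix_base]
  · rw [Category.assoc, SymProd.permHom_π,
      show (e.symm.trans e').symm (e' z) = e z by simp]
    rcases z with k | k
    · rw [mix_π_inl, mix_π_inl]
    · rw [mix_π_inr, mix_π_inr]

theorem perm_conj {a b : ℕ} (e : Fin a ⊕ Fin b ≃ Fin n) (σ : Equiv.Perm (Fin a)) (τ : Equiv.Perm (Fin b))
    (α : Pow f f' a b ⟶ Pow f f' a b) (h₁ : α ≫ pullback.fst _ _ = pullback.fst _ _ ≫ SymProd.permHom f a σ)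
    (h₂ : α ≫ pullback.snd _ _ = pullback.snd _ _ ≫ SymProd.permHom f' b τ) :
    α ≫ mix f f' e = mix f f' ((Equiv.sumCongr σ τ).trans e) := by
  refine mix_ext f f' ((Equiv.sumCongr σ τ).trans e) ?_ fun z => ?_
  · rw [Category.assoc, mix_base, mix_base, reassoc_of% h₁, SymProd.permHom_base]
  · rcases z with k | k
    · rw [mix_π_inl, Category.assoc,
        show ((Equiv.sumCongr σ τ).trans e) (Sum.inl k) = e (Sum.inl (σ k)) from rfl, mix_π_inl,
        reassoc_of% h₁, SymProd.permHom_π_assoc, Equiv.symm_apply_apply]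
    · rw [mix_π_inr, Category.assoc,
        show ((Equiv.sumCongr σ τ).trans e) (Sum.inr k) = e (Sum.inr (τ k)) from rfl, mix_π_inr,
        reassoc_of% h₂, SymProd.permHom_π_assoc, Equiv.symm_apply_apply]

/-- The sortings on all pieces glue to an invariant morphism. -/
theorem exists_sortMap :
    ∃ h : Big f f' n ⟶ ∐ Summand A g B g' n,
      (∀ (c : Fin n → Bool) (a b : ℕ) (hab : a + b = n) (e : Fin a ⊕ Fin b ≃ Fin n)
        (he : ∀ z, c (e z) = z.isLeft),
        (piece f f' n c).ι ≫ h = sortMap f f' A q g hA B q' g' hB n c a b hab e he) ∧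
      ∀ σ, SymProd.permHom (coprod.desc f f') n σ ≫ h = h := by
  choose a b e hab he using fun c : Fin n → Bool => exists_sorting c
  have hcov : TopologicalSpace.IsOpenCover (piece f f' n) := TopologicalSpace.IsOpenCover.mk (eq_top_iff.2 fun x _ => by
    choose c hc using fun i => exists_side ((WidePullback.π (fun _ : Fin n => coprod.desc f f') i : Big f f' n ⟶ X ⨿ X') x)
    exact Opens.mem_iSup.2 ⟨c, hc⟩)
  let 𝒰 := (Big f f' n).openCoverOfIsOpenCover (piece f f' n) hcov
  let φ : ∀ c : Fin n → Bool, (piece f f' n c).toScheme ⟶ ∐ Summand A g B g' n := fun c =>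
    sortMap f f' A q g hA B q' g' hB n c (a c) (b c) (hab c) (e c) (he c)
  have hφ : ∀ c c' : Fin n → Bool,
      pullback.fst (piece f f' n c).ι (piece f f' n c').ι ≫ φ c = pullback.snd _ _ ≫ φ c' := fun c c' => by
    by_cases hc : c = c'
    · subst hc
      rw [(cancel_mono (piece f f' n c).ι).1 pullback.condition]
    · haveI : IsEmpty ↥(pullback (piece f f' n c).ι (piece f f' n c').ι) := ⟨fun z => hc (funext fun i => by
        have h : (piece f f' n c).ι (pullback.fst (piece f f' n c).ι (piece f f' n c').ι z) =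
            (piece f f' n c').ι (pullback.snd (piece f f' n c).ι (piece f f' n c').ι z) := by
          rw [← Scheme.Hom.comp_apply, pullback.condition, Scheme.Hom.comp_apply]
        have h₁ := (pullback.fst (piece f f' n c).ι (piece f f' n c').ι z).2 i
        have h₂ := (pullback.snd (piece f f' n c).ι (piece f f' n c').ι z).2 i
        rw [show (pullback.fst (piece f f' n c).ι (piece f f' n c').ι z).1 =
          (pullback.snd (piece f f' n c).ι (piece f f' n c').ι z).1 from h] at h₁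
        exact side_unique h₁ h₂)⟩
      exact (isInitialOfIsEmpty).hom_ext _ _
  refine ⟨𝒰.glueMorphisms φ hφ, ?_, ?_⟩
  · intro c a' b' hab' e' he'
    exact (Scheme.Cover.ι_glueMorphisms 𝒰 φ hφ c).trans (sortMap_congr ..)
  · intro σ
    refine Scheme.Cover.hom_ext 𝒰 _ _ fun c => ?_
    show (piece f f' n c).ι ≫ _ ≫ _ = (piece f f' n c).ι ≫ _
    let c' : Fin n → Bool := fun i => c (σ.symm i)
    let r : (piece f f' n c).toScheme ⟶ (piece f f' n c').toScheme :=
      IsOpenImmersion.lift (piece f f' n c').ι ((piece f f' n c).ι ≫ SymProd.permHom (coprod.desc f f') n σ) (by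
        rw [Scheme.Opens.range_ι]
        rintro _ ⟨x, rfl⟩ i
        rw [← Scheme.Hom.comp_apply, Category.assoc, SymProd.permHom_π, Scheme.Hom.comp_apply]
        exact x.2 (σ.symm i))
    have hr : r ≫ (piece f f' n c').ι = (piece f f' n c).ι ≫ SymProd.permHom (coprod.desc f f') n σ :=
      IsOpenImmersion.lift_fac _ _ _
    have he' : ∀ z, c (((e c').trans σ.symm) z) = z.isLeft := fun z => he c' z
    rw [← Category.assoc, ← hr, Category.assoc, show (piece f f' n c').ι ≫ 𝒰.glueMorphisms φ hφ = φ c' from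
        Scheme.Cover.ι_glueMorphisms 𝒰 φ hφ c',
      show (piece f f' n c).ι ≫ 𝒰.glueMorphisms φ hφ = φ c from Scheme.Cover.ι_glueMorphisms 𝒰 φ hφ c,
      show φ c = sortMap f f' A q g hA B q' g' hB n c (a c') (b c') (hab c') ((e c').trans σ.symm) he' from
        sortMap_congr ..]
    simp only [φ, sortMap, ← Category.assoc]
    congr 2
    have hcx : ∀ (i j : Fin n), σ.symm i = j → ∀ hi hj,
        r ≫ compX f f' c' i hi = compX f f' c j hj := by
      rintro i _ rfl hi hj
      rw [← cancel_mono (coprod.inl : X ⟶ X ⨿ X'), Category.assoc, compX_inl, compX_inl, reassoc_of% hr,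
        SymProd.permHom_π]
    have hcx' : ∀ (i j : Fin n), σ.symm i = j → ∀ hi hj,
        r ≫ compX' f f' c' i hi = compX' f f' c j hj := by
      rintro i _ rfl hi hj
      rw [← cancel_mono (coprod.inr : X' ⟶ X ⨿ X'), Category.assoc, compX'_inr, compX'_inr, reassoc_of% hr,
        SymProd.permHom_π]
    apply pullback.hom_ext
    · simp only [srt, Category.assoc, pullback.lift_fst]
      refine WidePullback.hom_ext _ _ _ (fun k => ?_) ?_
      · rw [Category.assoc, WidePullback.lift_π, WidePullback.lift_π]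
        exact hcx _ _ rfl _ _
      · rw [Category.assoc, WidePullback.lift_base, WidePullback.lift_base, reassoc_of% hr, SymProd.permHom_base]
    · simp only [srt, Category.assoc, pullback.lift_snd]
      refine WidePullback.hom_ext _ _ _ (fun k => ?_) ?_
      · rw [Category.assoc, WidePullback.lift_π, WidePullback.lift_π]
        exact hcx' _ _ rfl _ _
      · rw [Category.assoc, WidePullback.lift_base, WidePullback.lift_base, reassoc_of% hr, SymProd.permHom_base]

include hA hB in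
/-- `Symⁿ(X ⊔ X') ≅ ⊔ Symᵃ X ×_Y Symᵇ X'`. -/
theorem exists_iso (hu : ∀ (W : Scheme.{u}) (_ : W ⟶ Y) (m : ℕ), 0 < m → IsUnit ((m : ℕ) : Γ(W, ⊤)))
    {T : Scheme.{u}} (Q : Big f f' n ⟶ T) (h : T ⟶ Y) (hT : SymProd.IsSymProd (coprod.desc f f') n Q h) :
    ∃ ψ : ∐ Summand A g B g' n ⟶ T, IsIso ψ ∧
      ∀ p, Sigma.ι (Summand A g B g' n) p ≫ ψ ≫ h = pullback.fst (g p.1.1) (g' p.1.2) ≫ g p.1.1 := by
  obtain ⟨H, hH, hHinv⟩ := exists_sortMap f f' A q g hA B q' g' hB n
  obtain ⟨θ, hθ, -⟩ := Groth.L27.Quot.existsUnique_desc hT.isQuot H fun σ => hHinv σ.down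
  have hQ : ∀ (a b : ℕ) (e e' : Fin a ⊕ Fin b ≃ Fin n), mix f f' e ≫ Q = mix f f' e' ≫ Q := fun a b e e' => by
    rw [← permHom_mix f f' n e e', Category.assoc]
    exact congrArg (_ ≫ ·) (hT.isQuot.inv (ULift.up _)).symm
  have hψ : ∀ p : {p : ℕ × ℕ // p ∈ Finset.antidiagonal n}, ∃ m : Summand A g B g' n p ⟶ T,
      ∀ e : Fin p.1.1 ⊕ Fin p.1.2 ≃ Fin n,
        qq f f' (q _) (g _) (hA _) (q' _) (g' _) (hB _) ≫ m = mix f f' e ≫ Q := fun p => by
    let e₀ := finSumFinEquiv.trans (finCongr (Finset.mem_antidiagonal.1 p.2))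
    obtain ⟨m, hm⟩ := (qq_data f f' (q _) (g _) (hA p.1.1) (q' _) (g' _) (hB p.1.2) hu).2 (mix f f' e₀ ≫ Q)
      fun σ τ α h₁ h₂ => by
        rw [← Category.assoc, perm_conj f f' n e₀ σ τ α h₁ h₂]
        exact hQ _ _ _ _
    exact ⟨m, fun e => hm.trans (hQ _ _ _ _)⟩
  choose m hm using hψ
  refine ⟨Sigma.desc m, ⟨θ, ?_, ?_⟩, fun p => ?_⟩
  · refine Sigma.hom_ext _ _ fun p => ?_
    rw [Category.comp_id, Sigma.ι_desc_assoc]
    refine (qq_data f f' (q _) (g _) (hA p.1.1) (q' _) (g' _) (hB p.1.2) hu).1 _ _ ?_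
    let e₀ := finSumFinEquiv.trans (finCongr (Finset.mem_antidiagonal.1 p.2))
    let c₀ : Fin n → Bool := fun i => (e₀.symm i).isLeft
    have he₀ : ∀ z, c₀ (e₀ z) = z.isLeft := fun z => by simp [c₀]
    rw [← Category.assoc, hm p e₀, Category.assoc, hθ, ← unsort_ι f f' c₀ e₀ he₀, Category.assoc,
      hH c₀ _ _ (Finset.mem_antidiagonal.1 p.2) e₀ he₀, sortMap, ← Category.assoc, unsort_srt, Category.id_comp]
  · refine Groth.L27.Quot.hom_ext hT.isQuot ?_
    have hcov : TopologicalSpace.IsOpenCover (piece f f' n) := TopologicalSpace.IsOpenCover.mk (eq_top_iff.2 fun x _ => by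
      choose c hc using fun i => exists_side ((WidePullback.π (fun _ : Fin n => coprod.desc f f') i : Big f f' n ⟶ X ⨿ X') x)
      exact Opens.mem_iSup.2 ⟨c, hc⟩)
    refine Scheme.Cover.hom_ext ((Big f f' n).openCoverOfIsOpenCover _ hcov) _ _ fun c => ?_
    show (piece f f' n c).ι ≫ Q ≫ θ ≫ Sigma.desc m = (piece f f' n c).ι ≫ Q ≫ 𝟙 T
    obtain ⟨a, b, e, hab, he⟩ := exists_sorting c
    rw [reassoc_of% hθ, ← Category.assoc, hH c a b hab e he, sortMap]
    simp only [Category.assoc, Sigma.ι_desc, Category.comp_id]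
    rw [hm ⟨(a, b), Finset.mem_antidiagonal.2 hab⟩ e, ← Category.assoc, srt_mix]
  · rw [Sigma.ι_desc_assoc]
    refine (qq_data f f' (q _) (g _) (hA p.1.1) (q' _) (g' _) (hB p.1.2) hu).1 _ _ ?_
    rw [← Category.assoc, hm p (finSumFinEquiv.trans (finCongr (Finset.mem_antidiagonal.1 p.2))), Category.assoc,
      hT.over, mix_base, ← Category.assoc, qq, map_fst, Category.assoc, (hA _).over]

end

end Groth.L02.SymZeta
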