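/-
The class of a finite disjoint union in the Grothendieck ring is the sum of the classes.
-/
import Groth.Prelude.Def_K0Var
import Mathlib.AlgebraicGeometry.Limits
import Mathlib.AlgebraicGeometry.Morphisms.ClosedImmersion

set_option autoImplicit false
set_option linter.style.haveILetI false

open CategoryTheory CategoryTheory.Limits AlgebraicGeometry TopologicalSpace

universe u

namespace Groth.L02.SymZeta

variable {S : Scheme.{u}}

/-- Two complementary open pieces. -/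
theorem cl_add_of_isCompl {A Z U : Scheme.{u}} (f : A ⟶ S) [LocallyOfFiniteType f] [QuasiCompact f]
    (i : Z ⟶ A) [IsOpenImmersion i] (j : U ⟶ A) [IsOpenImmersion j]
    (hr : Set.range i = (Set.range j)ᶜ) :
    ∃ (_ : QuasiCompact (i ≫ f)) (_ : QuasiCompact (j ≫ f)), K0Var.cl f = K0Var.cl (i ≫ f) + K0Var.cl (j ≫ f) := by
  haveI : IsClosedImmersion i := .of_isPreimmersion _ (hr ▸ j.isOpenEmbedding.isOpen_range.isClosed_compl)
  haveI : IsClosedImmersion j := .of_isPreimmersion _ (by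
    rw [show Set.range j = (Set.range i)ᶜ by rw [hr, compl_compl]]
    exact i.isOpenEmbedding.isOpen_range.isClosed_compl)
  haveI : QuasiCompact (i ≫ f) := inferInstance
  haveI : QuasiCompact (j ≫ f) := inferInstance
  exact ⟨inferInstance, inferInstance, K0Var.cl_scissor f i j hr⟩

/-- An open covered by finitely many disjoint open pieces. -/
theorem cl_opens_eq_sum {ι : Type*} [DecidableEq ι] {A : Scheme.{u}} (f : A ⟶ S) [LocallyOfFiniteType f]
    [QuasiCompact f] (Z : ι → Scheme.{u}) (j : ∀ i, Z i ⟶ A) [∀ i, IsOpenImmersion (j i)]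
    [∀ i, LocallyOfFiniteType (j i ≫ f)] [∀ i, QuasiCompact (j i ≫ f)]
    (hd : ∀ i i', i ≠ i' → Disjoint (Set.range (j i)) (Set.range (j i'))) (s : Finset ι) :
    ∀ (V : A.Opens) [QuasiCompact (V.ι ≫ f)], (∀ a : A, a ∈ V ↔ ∃ i ∈ s, a ∈ Set.range (j i)) →
      K0Var.cl (V.ι ≫ f) = ∑ i ∈ s, K0Var.cl (j i ≫ f) := by
  induction s using Finset.induction_on with
  | empty =>
    intro V _ hV
    haveI : IsEmpty V.toScheme := ⟨fun a => by simpa using (hV a.1).1 a.2⟩
    rw [Finset.sum_empty]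
    exact K0Var.Gen.cl_eq_zero_of_isEmpty (K0Var.Gen.mk V.toScheme (V.ι ≫ f))
  | @insert k s hk ih =>
    intro V _ hV
    let V' : A.Opens := ⨆ i : s, (j i).opensRange
    have hV' : ∀ a : A, a ∈ V' ↔ ∃ i ∈ s, a ∈ Set.range (j i) := fun a => by
      rw [Opens.mem_iSup]
      exact ⟨fun ⟨⟨i, hi⟩, h⟩ => ⟨i, hi, h⟩, fun ⟨i, hi, h⟩ => ⟨⟨i, hi⟩, h⟩⟩
    have hle : V' ≤ V := fun a ha => by
      obtain ⟨i, hi, h⟩ := (hV' a).1 ha
      exact (hV a).2 ⟨i, Finset.mem_insert_of_mem hi, h⟩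
    have hk' : Set.range (j k) ⊆ Set.range V.ι := by
      rw [Scheme.Opens.range_ι]
      exact fun a ha => (hV a).2 ⟨k, Finset.mem_insert_self _ _, ha⟩
    let i₁ := IsOpenImmersion.lift V.ι (j k) hk'
    haveI : IsOpenImmersion (i₁ ≫ V.ι) := by rw [IsOpenImmersion.lift_fac]; infer_instance
    haveI : IsOpenImmersion i₁ := IsOpenImmersion.of_comp _ V.ι
    have h1 : ∀ a : V.toScheme, a ∈ Set.range i₁ ↔ a.1 ∈ Set.range (j k) := fun a => by
      constructor
      · rintro ⟨z, rfl⟩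
        exact ⟨z, by show j k z = (i₁ ≫ V.ι) z; rw [IsOpenImmersion.lift_fac]⟩
      · rintro ⟨z, hz⟩
        exact ⟨z, Subtype.ext (by show (i₁ ≫ V.ι) z = a.1; rw [IsOpenImmersion.lift_fac, hz])⟩
    have h2 : ∀ a : V.toScheme, a ∈ Set.range (A.homOfLE hle) ↔ a.1 ∈ V' := fun a => by
      constructor
      · rintro ⟨z, rfl⟩
        rw [Scheme.homOfLE_apply]
        exact z.2
      · intro h
        exact ⟨⟨a.1, h⟩, Subtype.ext (Scheme.homOfLE_apply _ _)⟩
    have hr : Set.range i₁ = (Set.range (A.homOfLE hle))ᶜ := by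
      ext a
      rw [Set.mem_compl_iff, h1, h2, hV']
      refine ⟨fun ha ⟨i, hi, hai⟩ => Set.disjoint_left.1 (hd k i fun e => hk (e ▸ hi)) ha hai, fun h => ?_⟩
      obtain ⟨i, hi, ha⟩ := (hV a.1).1 a.2
      rcases Finset.mem_insert.1 hi with rfl | hi
      · exact ha
      · exact absurd ⟨i, hi, ha⟩ h
    obtain ⟨q1, q2, e⟩ := cl_add_of_isCompl (V.ι ≫ f) i₁ (A.homOfLE hle) hr
    haveI := q1
    haveI := q2
    haveI : QuasiCompact (V'.ι ≫ f) := by
      rw [← Scheme.homOfLE_ι A hle, Category.assoc]; exact q2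
    rw [e, Finset.sum_insert hk, ← ih V' hV']
    congr 1
    · exact K0Var.cl_congr _ _ (Iso.refl _) (by rw [Iso.refl_hom, Category.id_comp, ← Category.assoc, IsOpenImmersion.lift_fac])
    · exact K0Var.cl_congr _ _ (Iso.refl _) (by rw [Iso.refl_hom, Category.id_comp, Scheme.homOfLE_ι_assoc])

/-- The class of a finite coproduct. -/
theorem cl_sigma {ι : Type} [Fintype ι] [DecidableEq ι] (Z : ι → Scheme.{u}) (f : ∐ Z ⟶ S)
    [LocallyOfFiniteType f] [QuasiCompact f]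
    [∀ i, LocallyOfFiniteType (Sigma.ι Z i ≫ f)] [∀ i, QuasiCompact (Sigma.ι Z i ≫ f)] :
    K0Var.cl f = ∑ i, K0Var.cl (Sigma.ι Z i ≫ f) := by
  haveI : ∀ i, IsOpenImmersion (Sigma.ι Z i) := fun i => inferInstanceAs (IsOpenImmersion ((sigmaOpenCover Z).f i))
  haveI : IsIso (⊤ : (∐ Z).Opens).ι := (∐ Z).topIso.isIso_hom
  haveI : QuasiCompact ((⊤ : (∐ Z).Opens).ι ≫ f) := inferInstance
  rw [← cl_opens_eq_sum f Z (Sigma.ι Z) (fun i i' h => ?_) Finset.univ ⊤ fun a => ?_]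
  · exact (K0Var.cl_congr _ _ (∐ Z).topIso rfl).symm
  · exact Set.disjoint_left.2 fun a ha ha' => (disjoint_opensRange_sigmaι Z i i' h).le_bot
      (show a ∈ (Sigma.ι Z i).opensRange ⊓ (Sigma.ι Z i').opensRange from ⟨ha, ha'⟩)
  · refine ⟨fun _ => ?_, fun _ => trivial⟩
    obtain ⟨i, z, hz⟩ := (sigmaOpenCover Z).exists_eq a
    exact ⟨i, Finset.mem_univ _, z, hz⟩

end Groth.L02.SymZeta
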